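import Mathlib
import Groth.Agent.Lib.Helper5.Gen.CoyEx

/-!
# Functors mapping distinguished triangles to distinguished triangles, up to the choice of the
third map (helper5)
-/
set_option autoImplicit false
set_option linter.unusedSectionVars false
set_option linter.unusedVariables false
universe u
open CategoryTheory CategoryTheory.Limits Pretriangulated

namespace Groth.Agent.Lib.Helper5.ProjF3

open Helper5.Gen

variable {C : Type*} [Category C] [HasZeroObject C] [HasShift C ℤ] [Preadditive C]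
  [∀ n : ℤ, (shiftFunctor C n).Additive] [Pretriangulated C]
  {D : Type*} [Category D] [HasZeroObject D] [HasShift D ℤ] [Preadditive D]
  [∀ n : ℤ, (shiftFunctor D n).Additive] [Pretriangulated D]
  {E : Type*} [Category E] [HasZeroObject E] [HasShift E ℤ] [Preadditive E]
  [∀ n : ℤ, (shiftFunctor E n).Additive] [Pretriangulated E]

/-- `F` maps the first two maps of a distinguished triangle to the first two maps of a
distinguished triangle -/
def WeakTri (F : C ⥤ D) : Prop :=
  ∀ T ∈ distTriang C, ∃ c : F.obj T.obj₃ ⟶ (F.obj T.obj₁)⟦(1 : ℤ)⟧,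
    Triangle.mk (F.map T.mor₁) (F.map T.mor₂) c ∈ distTriang D

theorem weakTri_of_isTriangulated (F : C ⥤ D) [F.CommShift ℤ] [F.IsTriangulated] :
    WeakTri F := fun T hT => ⟨_, F.map_distinguished T hT⟩

theorem WeakTri.comp {F : C ⥤ D} {G : D ⥤ E} (hF : WeakTri F) (hG : WeakTri G) :
    WeakTri (F ⋙ G) := by
  intro T hT
  obtain ⟨c, hc⟩ := hF T hT
  exact hG _ hc

theorem WeakTri.coyExact {F : C ⥤ D} (hF : WeakTri F) : CoyExact F := by
  intro T hT
  obtain ⟨c, hc⟩ := hF T hT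
  constructor
  · exact comp_distTriang_mor_zero₁₂ _ hc
  · intro W g hg
    exact Triangle.coyoneda_exact₂ _ hc g hg

/-- a pair of composable maps isomorphic to the first two maps of a distinguished triangle
extends to a distinguished triangle -/
theorem exists_distinguished_of_pair_iso {X Y Z : D} (a : X ⟶ Y) (b : Y ⟶ Z)
    (T' : Triangle D) (hT' : T' ∈ distTriang D)
    (i₁ : X ≅ T'.obj₁) (i₂ : Y ≅ T'.obj₂) (i₃ : Z ≅ T'.obj₃)
    (c₁ : a ≫ i₂.hom = i₁.hom ≫ T'.mor₁) (c₂ : b ≫ i₃.hom = i₂.hom ≫ T'.mor₂) :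
    ∃ c : Z ⟶ X⟦(1 : ℤ)⟧, Triangle.mk a b c ∈ distTriang D := by
  refine ⟨i₃.hom ≫ T'.mor₃ ≫ (shiftFunctor D (1 : ℤ)).map i₁.inv, ?_⟩
  refine isomorphic_distinguished _ hT' _ (Triangle.isoMk _ _ i₁ i₂ i₃ c₁ c₂ ?_)
  show (i₃.hom ≫ T'.mor₃ ≫ (shiftFunctor D (1 : ℤ)).map i₁.inv) ≫
    (shiftFunctor D (1 : ℤ)).map i₁.hom = i₃.hom ≫ T'.mor₃
  rw [Category.assoc, Category.assoc, ← Functor.map_comp, Iso.inv_hom_id,
    CategoryTheory.Functor.map_id, Category.comp_id]

theorem WeakTri.of_iso {F F' : C ⥤ D} (e : F ≅ F') (hF : WeakTri F) : WeakTri F' := by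
  intro T hT
  obtain ⟨c, hc⟩ := hF T hT
  exact exists_distinguished_of_pair_iso _ _ _ hc (e.symm.app _) (e.symm.app _) (e.symm.app _)
    (e.inv.naturality _) (e.inv.naturality _)

end Groth.Agent.Lib.Helper5.ProjF3
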