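import Mathlib
import Groth.Agent.Lib.Helper5.ProjF3.WeakTri

/-!
# A left derived functor computed on an adapted class of complexes maps distinguished triangles
to distinguished triangles (helper5)
-/
set_option autoImplicit false
set_option linter.unusedSectionVars false
set_option linter.unusedVariables false
set_option linter.style.haveILetI false
universe w v u
open CategoryTheory CategoryTheory.Limits Pretriangulated DerivedCategory

namespace Groth.Agent.Lib.Helper5.ProjF3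

lemma paste_sq {𝒞 : Type*} [Category 𝒞] {X₁ X₂ X₃ Y₁ Y₂ Y₃ : 𝒞} (a : X₁ ⟶ X₂) (b : X₂ ⟶ Y₂)
    (c : X₁ ⟶ Y₁) (d : Y₁ ⟶ Y₂) (e : Y₂ ⟶ Y₃) (f : Y₁ ⟶ X₃) (g : X₃ ⟶ Y₃)
    (h1 : a ≫ b = c ≫ d) (h2 : d ≫ e = f ≫ g) : a ≫ b ≫ e = (c ≫ f) ≫ g := by
  rw [← Category.assoc, h1, Category.assoc, h2, Category.assoc]

variable {A : Type u} [Category.{v} A] [Abelian A] [HasDerivedCategory.{w} A]
  (KF : CochainComplex A ℤ → Prop)
  (hres : ∀ K : CochainComplex A ℤ, ∃ (K' : CochainComplex A ℤ) (q : K' ⟶ K), KF K' ∧ QuasiIso q)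

include hres in
/-- every morphism of `D(A)` is represented by a map between complexes of the class `KF` -/
theorem exists_repr_map {X₁ X₂ : DerivedCategory A} (m : X₁ ⟶ X₂) :
    ∃ (C A' : CochainComplex A ℤ) (ψ : C ⟶ A') (e₁ : Q.obj C ≅ X₁) (e₂ : Q.obj A' ≅ X₂),
      KF C ∧ KF A' ∧ Q.map ψ ≫ e₂.hom = e₁.hom ≫ m := by
  obtain ⟨A', a, hA', ha⟩ := hres (Q.objPreimage X₂)
  haveI := ha
  haveI : IsIso (Q.map a) := (isIso_Q_map_iff_quasiIso _ a).2 ha
  let e₂ : Q.obj A' ≅ X₂ := asIso (Q.map a) ≪≫ Q.objObjPreimageIso X₂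
  let e₀ : Q.obj (Q.objPreimage X₁) ≅ X₁ := Q.objObjPreimageIso X₁
  obtain ⟨X', s, hs, g, hfac⟩ := right_fac (e₀.hom ≫ m ≫ e₂.inv)
  haveI := hs
  obtain ⟨C, r, hC, hr⟩ := hres X'
  haveI : IsIso (Q.map r) := (isIso_Q_map_iff_quasiIso _ r).2 hr
  refine ⟨C, A', r ≫ g, asIso (Q.map r) ≪≫ asIso (Q.map s) ≪≫ e₀, e₂, hC, hA', ?_⟩
  have h1 : Q.map g = Q.map s ≫ e₀.hom ≫ m ≫ e₂.inv := by
    rw [hfac, IsIso.hom_inv_id_assoc]
  rw [Functor.map_comp, h1]
  simp only [Iso.trans_hom, asIso_hom, Category.assoc, Iso.inv_hom_id, Category.comp_id]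

variable {D' : Type*} [Category D'] [HasZeroObject D'] [HasShift D' ℤ] [Preadditive D']
  [∀ n : ℤ, (shiftFunctor D' n).Additive] [Pretriangulated D']
  (Ψ : CochainComplex A ℤ ⥤ D') (L : DerivedCategory A ⥤ D') (β : Q ⋙ L ⟶ Ψ)

include hres in
/-- **a left derived functor is weakly triangulated** as soon as the underived functor maps the
rotated cone sequences of maps between adapted complexes to distinguished triangles -/
theorem weakTri_of_derived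
    (hcone : ∀ {C A' : CochainComplex A ℤ} (ψ : C ⟶ A'), KF C → KF A' →
      KF (CochainComplex.mappingCone ψ))
    (hshift : ∀ C : CochainComplex A ℤ, KF C → KF (C⟦(1 : ℤ)⟧))
    (hβ : ∀ K : CochainComplex A ℤ, KF K → IsIso (β.app K))
    (hΨ : ∀ {C A' : CochainComplex A ℤ} (ψ : C ⟶ A'), KF C → KF A' →
      ∃ c : Ψ.obj (C⟦(1 : ℤ)⟧) ⟶ (Ψ.obj A')⟦(1 : ℤ)⟧,
        Triangle.mk (Ψ.map (CochainComplex.mappingCone.inr ψ))
          (Ψ.map (CochainComplex.mappingCone.triangle ψ).mor₃) c ∈ distTriang D') :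
    WeakTri L := by
  intro T hT
  have hT' := inv_rot_of_distTriang T hT
  obtain ⟨C, A', ψ, e₁, e₂, hC, hA', comm⟩ := exists_repr_map KF hres T.invRotate.mor₁
  have h₀ : Q.mapTriangle.obj (CochainComplex.mappingCone.triangle ψ) ∈
      distTriang (DerivedCategory A) := by
    rw [mem_distTriang_iff]
    exact ⟨_, _, ψ, ⟨Iso.refl _⟩⟩
  let θ' : Q.mapTriangle.obj (CochainComplex.mappingCone.triangle ψ) ≅ T.invRotate :=
    isoTriangleOfIso₁₂ _ _ h₀ hT' e₁ e₂ comm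
  let θ : T ≅ Q.mapTriangle.obj (CochainComplex.mappingCone.triangle ψ).rotate :=
    ((triangleRotation (DerivedCategory A)).counitIso.app T).symm ≪≫
      (Pretriangulated.rotate (DerivedCategory A)).mapIso θ'.symm ≪≫
      (Q.mapTriangleRotateIso.app (CochainComplex.mappingCone.triangle ψ))
  obtain ⟨c, hc⟩ := hΨ ψ hC hA'
  haveI := hβ A' hA'
  haveI := hβ _ (hcone ψ hC hA')
  haveI := hβ _ (hshift C hC)
  have k₁ : T.mor₁ ≫ θ.hom.hom₂ = θ.hom.hom₁ ≫ Q.map (CochainComplex.mappingCone.inr ψ) :=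
    θ.hom.comm₁
  have k₂ : T.mor₂ ≫ θ.hom.hom₃ =
      θ.hom.hom₂ ≫ Q.map (CochainComplex.mappingCone.triangle ψ).mor₃ := θ.hom.comm₂
  have n₁ := β.naturality (CochainComplex.mappingCone.inr ψ)
  have n₂ := β.naturality (CochainComplex.mappingCone.triangle ψ).mor₃
  dsimp at n₁ n₂
  refine exists_distinguished_of_pair_iso _ _ _ hc
    (L.mapIso (Triangle.π₁.mapIso θ) ≪≫ @asIso _ _ _ _ (β.app A') (hβ A' hA'))
    (L.mapIso (Triangle.π₂.mapIso θ) ≪≫ @asIso _ _ _ _ (β.app (CochainComplex.mappingCone ψ)) (hβ _ (hcone ψ hC hA')))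
    (L.mapIso (Triangle.π₃.mapIso θ) ≪≫ @asIso _ _ _ _ (β.app (C⟦(1 : ℤ)⟧)) (hβ _ (hshift C hC))) ?_ ?_
  · show L.map T.mor₁ ≫ L.map θ.hom.hom₂ ≫ β.app (CochainComplex.mappingCone ψ) =
      (L.map θ.hom.hom₁ ≫ β.app A') ≫ Ψ.map (CochainComplex.mappingCone.inr ψ)
    have k₁' : L.map T.mor₁ ≫ L.map θ.hom.hom₂ =
        L.map θ.hom.hom₁ ≫ L.map (Q.map (CochainComplex.mappingCone.inr ψ)) :=
      (L.map_comp _ _).symm.trans ((congrArg L.map k₁).trans (L.map_comp _ _))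
    exact paste_sq _ _ _ _ _ _ _ k₁' n₁
  · show L.map T.mor₂ ≫ L.map θ.hom.hom₃ ≫ β.app (C⟦(1 : ℤ)⟧) =
      (L.map θ.hom.hom₂ ≫ β.app (CochainComplex.mappingCone ψ)) ≫
        Ψ.map (CochainComplex.mappingCone.triangle ψ).mor₃
    have k₂' : L.map T.mor₂ ≫ L.map θ.hom.hom₃ =
        L.map θ.hom.hom₂ ≫ L.map (Q.map (CochainComplex.mappingCone.triangle ψ).mor₃) :=
      (L.map_comp _ _).symm.trans ((congrArg L.map k₂).trans (L.map_comp _ _))
    exact paste_sq _ _ _ _ _ _ _ k₂' n₂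

end Groth.Agent.Lib.Helper5.ProjF3
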