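import Mathlib
import Groth.Agent.Lib.Helper5.ProjF3.WeakTri
import Groth.Agent.Lib.Helper5.LTen.BifunSplit

/-!
# Functors on complexes preserving degreewise split short exact sequences (helper5)
-/
set_option autoImplicit false
set_option linter.unusedSectionVars false
set_option linter.unusedVariables false
set_option linter.style.haveILetI false
universe w v u
open CategoryTheory CategoryTheory.Limits Pretriangulated DerivedCategory HomologicalComplex

namespace Groth.Agent.Lib.Helper5.ProjF3

variable {A : Type*} [Category A] [Abelian A] {B : Type*} [Category B] [Abelian B]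
  {B' : Type*} [Category B'] [Abelian B']

/-- `G` maps degreewise split short exact sequences of complexes to degreewise split short exact
sequences -/
def PresSplit (G : CochainComplex A ℤ ⥤ CochainComplex B ℤ) [G.PreservesZeroMorphisms] : Prop :=
  ∀ (S : ShortComplex (CochainComplex A ℤ))
    (_ : ∀ n : ℤ, (S.map (eval A (ComplexShape.up ℤ) n)).Splitting) (n : ℤ),
    Nonempty ((S.map G).map (eval B (ComplexShape.up ℤ) n)).Splitting

theorem PresSplit.comp {G : CochainComplex A ℤ ⥤ CochainComplex B ℤ} [G.PreservesZeroMorphisms]
    {G' : CochainComplex B ℤ ⥤ CochainComplex B' ℤ} [G'.PreservesZeroMorphisms]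
    (hG : PresSplit G) (hG' : PresSplit G') : PresSplit (G ⋙ G') := by
  intro S σ n
  exact hG' (S.map G) (fun m => (hG S σ m).some) n

theorem presSplit_mapHomologicalComplex (F : A ⥤ B) [F.Additive] :
    PresSplit (F.mapHomologicalComplex (ComplexShape.up ℤ)) := by
  intro S σ n
  exact ⟨(σ n).map F⟩

theorem presSplit_flip_obj (F : A ⥤ A ⥤ A) [F.Additive] [∀ X₁ : A, (F.obj X₁).Additive]
    [∀ (K₁ K₂ : CochainComplex A ℤ), CochainComplex.HasMapBifunctor K₁ K₂ F]
    (K₂ : CochainComplex A ℤ) : PresSplit (F.map₂CochainComplex.flip.obj K₂) := by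
  intro S σ n
  exact ⟨Groth.Agent.Lib.Helper5.LTenTri.splittingMap F K₂ S σ n⟩

variable [HasDerivedCategory.{w} B]

/-- the image under a functor preserving degreewise split short exact sequences of a rotated
cone sequence extends to a distinguished triangle of the derived category -/
theorem exists_distinguished_of_presSplit (G : CochainComplex A ℤ ⥤ CochainComplex B ℤ)
    [G.PreservesZeroMorphisms] (hG : PresSplit G) {C A' : CochainComplex A ℤ} (ψ : C ⟶ A') :
    ∃ c : Q.obj (G.obj (C⟦(1 : ℤ)⟧)) ⟶ (Q.obj (G.obj A'))⟦(1 : ℤ)⟧,
      Triangle.mk (Q.map (G.map (CochainComplex.mappingCone.inr ψ)))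
        (Q.map (G.map (CochainComplex.mappingCone.triangle ψ).mor₃)) c ∈
        distTriang (DerivedCategory B) := by
  have hS : ((CochainComplex.mappingCone.triangleRotateShortComplex ψ).map G).ShortExact :=
    shortExact_of_degreewise_shortExact _ (fun n =>
      (hG _ (CochainComplex.mappingCone.triangleRotateShortComplexSplitting ψ) n).some.shortExact)
  exact ⟨_, triangleOfSES_distinguished hS⟩

end Groth.Agent.Lib.Helper5.ProjF3
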