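import Mathlib
import Groth.Agent.Lib.Helper5.ProjF3.DerWeakTri
import Groth.Agent.Lib.Helper5.ProjF3.PresSplit
import Groth.Agent.Lib.Helper5.LTen.LTenAll
import Groth.Agent.Lib.Helper5.LTen.AssocD
import Groth.Agent.Lib.Helper5.ProjF.LpullKF

/-!
# The derived tensor product `- ⊗^L M` maps distinguished triangles to distinguished triangles
(helper5)
-/
set_option autoImplicit false
set_option linter.unusedSectionVars false
set_option linter.unusedVariables false
set_option linter.style.haveILetI false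
universe u
open CategoryTheory CategoryTheory.Limits Pretriangulated AlgebraicGeometry
attribute [local instance] HasDerivedCategory.standard

namespace Groth.Agent.Lib.Helper5.ProjF3

open Groth.Agent.Lib.Helper5.DerQ

variable {X : Scheme.{u}}

theorem kflat_res (K : CochainComplex X.Modules ℤ) :
    ∃ (K' : CochainComplex X.Modules ℤ) (q : K' ⟶ K), DCoh.IsKFlat K' ∧ QuasiIso q := by
  obtain ⟨P, p, h1, _, h3, _⟩ :=
    Groth.Agent.Lib.Helper5.KFlatSiteQ.exists_isKFlat_resolution (O := X.sheaf) K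
  exact ⟨P, p, h1, h3⟩

theorem isKFlat_cone {C A' : CochainComplex X.Modules ℤ} (ψ : C ⟶ A') (hC : DCoh.IsKFlat C)
    (hA' : DCoh.IsKFlat A') : DCoh.IsKFlat (CochainComplex.mappingCone ψ) :=
  (Groth.Agent.Lib.Helper5.Misc.KFlatSite.isKFlat_cone_two_of_three (O := X.sheaf) ψ).1 hC hA'

theorem isKFlat_shift_one (C : CochainComplex X.Modules ℤ) (hC : DCoh.IsKFlat C) :
    DCoh.IsKFlat (C⟦(1 : ℤ)⟧) := fun F hF =>
  (Groth.Agent.Lib.Helper5.Misc.KFlatGen.tot_shift₂_acyclic_iff (ModSite.tensorBi X.sheaf)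
    F C 1).2 (hC F hF)

/-- **`- ⊗^L M` is weakly triangulated** -/
theorem weakTri_LTensorCx (M : CochainComplex X.Modules ℤ) [DCoh.HasLTensorCx M] :
    WeakTri (DCoh.LTensorCx M) := by
  refine weakTri_of_derived (fun K : CochainComplex X.Modules ℤ => DCoh.IsKFlat K) kflat_res
    (DCoh.tensorCxQ M) (DCoh.LTensorCx M) (Groth.Agent.Lib.Helper5.AssocD.ε M)
    (fun ψ hC hA' => isKFlat_cone ψ hC hA') isKFlat_shift_one ?_ ?_
  · intro K hK
    exact isIso_counit_app (Groth.Agent.Lib.Helper5.LTenAll.adaptedQ_tensorCxQ M)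
      (DCoh.LTensorCx M) _ K hK
  · intro C A' ψ hC hA'
    exact exists_distinguished_of_presSplit _
      (presSplit_flip_obj (DCoh.tensorBi (X := X)) M) ψ

end Groth.Agent.Lib.Helper5.ProjF3
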