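import Mathlib
import Groth.Agent.Lib.Helper5.ProjF3.LTenWT
import Groth.Agent.Lib.Helper5.ProjF2.Rho
import Groth.Agent.Lib.Helper5.ShriekProj.DerQ2
import Groth.Agent.Lib.Helper5.StalkTen.KFlatPull
import Groth.Agent.Lib.Helper5.MV.RpushTri

/-!
# `K ↦ Rf_* (Lf^* K ⊗^L I)` as a left derived functor (helper5)
-/
set_option autoImplicit false
set_option linter.unusedSectionVars false
set_option linter.unusedVariables false
set_option linter.style.haveILetI false
universe u
open CategoryTheory CategoryTheory.Limits Pretriangulated AlgebraicGeometry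
attribute [local instance] HasDerivedCategory.standard

namespace Groth.Agent.Lib.Helper5.ProjF3

open Groth.Agent.Lib.Helper5.DerQ Groth.Agent.Lib.Helper5.ProjF2

variable {X Y : Scheme.{u}} (f : X ⟶ Y) [DCoh.HasRpush f] [DCoh.HasLpull f]
  (I : CochainComplex X.Modules ℤ) [DCoh.HasLTensorCx I]

/-- `Rf_*` is weakly triangulated -/
theorem weakTri_rpush : WeakTri (DCoh.Rpush f) := fun T hT =>
  Groth.Agent.Lib.Helper5.MV.exists_distinguished_rpush f T hT

/-- `F ↦ Rf_* Q (f^* F ⊗ I)` -/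
noncomputable abbrev Psi₂ : CochainComplex Y.Modules ℤ ⥤ DCoh.D Y :=
  pullCx f ⋙ DCoh.tensorCxQ I ⋙ DCoh.Rpush f

/-- `K ↦ Rf_* (Lf^* K ⊗^L I)` -/
noncomputable abbrev L₂ : DCoh.D Y ⥤ DCoh.D Y :=
  DCoh.Lpull f ⋙ DCoh.LTensorCx I ⋙ DCoh.Rpush f

/-- the counit of `Lf^*` along `Q` -/
noncomputable def lpullβ : DerivedCategory.Q ⋙ DCoh.Lpull f ⟶ pullCx f ⋙ DerivedCategory.Q where
  app K := (Groth.Agent.Lib.Helper5.LpullLib.lpullCounit f).app ((HomotopyCategory.quotient Y.Modules (ComplexShape.up ℤ)).obj K)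
  naturality K K' a :=
    (Groth.Agent.Lib.Helper5.LpullLib.lpullCounit f).naturality ((HomotopyCategory.quotient Y.Modules (ComplexShape.up ℤ)).map a)

theorem isIso_lpullβ_app (K : CochainComplex Y.Modules ℤ) (hK : DCoh.IsKFlat K) :
    IsIso ((lpullβ f).app K) :=
  Groth.Agent.Lib.Helper5.KProj.DerHo.isIso_counit_app
    (Groth.Agent.Lib.Helper5.ProjF.adaptedKF f) (DCoh.Lpull f) (Groth.Agent.Lib.Helper5.LpullLib.lpullCounit f) K hK

/-- the comparison map `Rf_* (Lf^* Q F ⊗^L I) ⟶ Rf_* Q (f^* F ⊗ I)` -/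
noncomputable def β₂ : DerivedCategory.Q ⋙ L₂ f I ⟶ Psi₂ f I where
  app F := (DCoh.Rpush f).map ((DCoh.LTensorCx I).map ((lpullβ f).app F) ≫
    (Groth.Agent.Lib.Helper5.AssocD.ε I).app ((pullCx f).obj F))
  naturality F F' a := by
    have h1 := (lpullβ f).naturality a
    have h2 := (Groth.Agent.Lib.Helper5.AssocD.ε I).naturality ((pullCx f).map a)
    dsimp at h1 h2 ⊢
    rw [← Functor.map_comp, ← Functor.map_comp]
    congr 1
    rw [← Category.assoc, ← Functor.map_comp, h1, Functor.map_comp, Category.assoc, h2,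
      Category.assoc]

theorem isIso_β₂_app (F : CochainComplex Y.Modules ℤ) (hF : DCoh.IsKFlat F) :
    IsIso ((β₂ f I).app F) := by
  haveI := isIso_lpullβ_app f F hF
  haveI : IsIso ((Groth.Agent.Lib.Helper5.AssocD.ε I).app ((pullCx f).obj F)) :=
    isIso_counit_app (Groth.Agent.Lib.Helper5.LTenAll.adaptedQ_tensorCxQ I)
      (DCoh.LTensorCx I) _ _ (Groth.Agent.Lib.Helper5.KFlatPull.isKFlat_pullback f F hF)
  show IsIso ((DCoh.Rpush f).map ((DCoh.LTensorCx I).map ((lpullβ f).app F) ≫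
    (Groth.Agent.Lib.Helper5.AssocD.ε I).app ((pullCx f).obj F)))
  infer_instance

theorem adapted₂ : AdaptedQ (Psi₂ f I)
    (fun F : CochainComplex Y.Modules ℤ => DCoh.IsKFlat F) where
  htpy a b hab := by
    show (DCoh.Rpush f).map ((DCoh.tensorCxQ I).map ((pullCx f).map a)) =
      (DCoh.Rpush f).map ((DCoh.tensorCxQ I).map ((pullCx f).map b))
    rw [(Groth.Agent.Lib.Helper5.LTenAll.adaptedQ_tensorCxQ I).htpy _ _
      ((Scheme.Modules.pullback f).mapHomotopy hab)]
  res := kflat_res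
  inv a hK hK' ha := by
    haveI := (Groth.Agent.Lib.Helper5.LTenAll.adaptedQ_tensorCxQ I).inv ((pullCx f).map a)
      (Groth.Agent.Lib.Helper5.KFlatPull.isKFlat_pullback f _ hK)
      (Groth.Agent.Lib.Helper5.KFlatPull.isKFlat_pullback f _ hK')
      (Groth.Agent.Lib.Helper5.ProjF.quasiIso_pullback_map_of_isKFlat f a hK hK' ha)
    show IsIso ((DCoh.Rpush f).map ((DCoh.tensorCxQ I).map ((pullCx f).map a)))
    infer_instance

instance isLeft₂ : (L₂ f I).IsLeftDerivedFunctor (β₂ f I)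
    (HomologicalComplex.quasiIso Y.Modules (ComplexShape.up ℤ)) :=
  isLeftDerivedFunctor_of_isIso (adapted₂ f I) _ _ (fun F hF => isIso_β₂_app f I F hF)

/-- **`K ↦ Rf_* (Lf^* K ⊗^L I)` is weakly triangulated** -/
theorem weakTri_L₂ : WeakTri (L₂ f I) := by
  refine weakTri_of_derived (fun K : CochainComplex Y.Modules ℤ => DCoh.IsKFlat K) kflat_res
    (Psi₂ f I) (L₂ f I) (β₂ f I)
    (fun ψ hC hA' => isKFlat_cone ψ hC hA') isKFlat_shift_one
    (fun F hF => isIso_β₂_app f I F hF) ?_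
  intro C A' ψ hC hA'
  obtain ⟨c, hc⟩ := exists_distinguished_of_presSplit
    (pullCx f ⋙ (DCoh.tensorBi (X := X)).map₂CochainComplex.flip.obj I)
    ((presSplit_mapHomologicalComplex (Scheme.Modules.pullback f)).comp
      (presSplit_flip_obj (DCoh.tensorBi (X := X)) I)) ψ
  exact weakTri_rpush f _ hc

end Groth.Agent.Lib.Helper5.ProjF3
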