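import Mathlib
import Groth.Agent.Lib.Helper5.ProjF3.T2
import Groth.Agent.Lib.Helper5.ProjF2.KIRestr
import Groth.Agent.Lib.Helper5.ProjF2.Transfer

/-!
# The projection formula map as a natural transformation `- ⊗^L f_* I ⟶ Rf_* (Lf^* - ⊗^L I)`
(helper5)
-/
set_option autoImplicit false
set_option linter.unusedSectionVars false
set_option linter.unusedVariables false
set_option linter.style.haveILetI false
universe u
open CategoryTheory CategoryTheory.Limits Pretriangulated AlgebraicGeometry
attribute [local instance] HasDerivedCategory.standard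

namespace Groth.Agent.Lib.Helper5.ProjF3

open Groth.Agent.Lib.Helper5.DerQ Groth.Agent.Lib.Helper5.ProjF2

section Braid

variable {Z : Scheme.{u}}

lemma braidCx_naturality₁ {F F' : CochainComplex Z.Modules ℤ} (a : F ⟶ F')
    (M : CochainComplex Z.Modules ℤ) :
    (DCoh.tensorCx.map a).app M ≫ (braidCx F' M).hom =
      (braidCx F M).hom ≫ (DCoh.tensorCx.obj M).map a :=
  Groth.Agent.Lib.Helper5.KFlatG.braid_naturality (ModSite.tensorBi Z.sheaf)
    (Groth.Agent.Lib.Helper5.KFlatSiteQ.flipIso Z.sheaf) a (𝟙 M)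

lemma braidCx_naturality₂ (M : CochainComplex Z.Modules ℤ) {G G' : CochainComplex Z.Modules ℤ}
    (b : G ⟶ G') :
    (DCoh.tensorCx.obj M).map b ≫ (braidCx M G').hom =
      (braidCx M G).hom ≫ (DCoh.tensorCx.map b).app M :=
  Groth.Agent.Lib.Helper5.KFlatG.braid_naturality (ModSite.tensorBi Z.sheaf)
    (Groth.Agent.Lib.Helper5.KFlatSiteQ.flipIso Z.sheaf) (𝟙 M) b

end Braid

variable {X Y : Scheme.{u}} (f : X ⟶ Y) [DCoh.HasRpush f] [DCoh.HasLpull f]
  (I : CochainComplex X.Modules ℤ) [DCoh.HasLTensorCx I]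
  [DCoh.HasLTensorCx ((pushCx f).obj I)]

/-- `ρ` as a natural transformation `Q (- ⊗ f_* I) ⟶ Rf_* Q (f^* - ⊗ I)` -/
noncomputable def rhoNat : DCoh.tensorCxQ ((pushCx f).obj I) ⟶ Psi₂ f I where
  app F := DerivedCategory.Q.map (braidCx F ((pushCx f).obj I)).hom ≫ rho f I F ≫
    (DCoh.Rpush f).map (DerivedCategory.Q.map (braidCx I ((pullCx f).obj F)).hom)
  naturality F F' a := by
    have h1 := braidCx_naturality₁ a ((pushCx f).obj I)
    have h2 := rho_naturality f I a
    have h3 := braidCx_naturality₂ I ((pullCx f).map a)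
    show DerivedCategory.Q.map ((DCoh.tensorCx.map a).app ((pushCx f).obj I)) ≫
        DerivedCategory.Q.map (braidCx F' ((pushCx f).obj I)).hom ≫ rho f I F' ≫
          (DCoh.Rpush f).map (DerivedCategory.Q.map (braidCx I ((pullCx f).obj F')).hom) =
      (DerivedCategory.Q.map (braidCx F ((pushCx f).obj I)).hom ≫ rho f I F ≫
          (DCoh.Rpush f).map (DerivedCategory.Q.map (braidCx I ((pullCx f).obj F)).hom)) ≫
        (DCoh.Rpush f).map (DerivedCategory.Q.map
          ((DCoh.tensorCx.map ((pullCx f).map a)).app I))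
    rw [← Category.assoc, ← Functor.map_comp, h1, Functor.map_comp, Category.assoc,
      ← Category.assoc (DerivedCategory.Q.map ((DCoh.tensorCx.obj ((pushCx f).obj I)).map a)),
      h2, Category.assoc, Category.assoc, Category.assoc, ← Functor.map_comp,
      ← Functor.map_comp, ← Functor.map_comp, ← Functor.map_comp, ← h3]
    rfl

/-- **the projection formula map in the derived category, as a natural transformation** -/
noncomputable def tauY : DCoh.LTensorCx ((pushCx f).obj I) ⟶ L₂ f I :=
  Functor.leftDerivedNatTrans (DCoh.LTensorCx ((pushCx f).obj I)) (L₂ f I)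
    (Groth.Agent.Lib.Helper5.AssocD.ε ((pushCx f).obj I)) (β₂ f I)
    (HomologicalComplex.quasiIso Y.Modules (ComplexShape.up ℤ)) (rhoNat f I)

lemma tauY_app (F : CochainComplex Y.Modules ℤ) :
    (tauY f I).app (DerivedCategory.Q.obj F) ≫ (β₂ f I).app F =
      (Groth.Agent.Lib.Helper5.AssocD.ε ((pushCx f).obj I)).app F ≫ (rhoNat f I).app F :=
  Functor.leftDerivedNatTrans_app _ _ _ _ _ _ F

/-- on K-flat complexes, `τ` is an isomorphism over `V` iff `ρ` is -/
theorem isIso_restrict_tauY_iff (V : Y.Opens) (F : CochainComplex Y.Modules ℤ)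
    (hF : DCoh.IsKFlat F) :
    IsIso ((DCoh.restrictD V.ι).map ((tauY f I).app (DerivedCategory.Q.obj F))) ↔
      RhoIsoOn f I V F := by
  haveI := isIso_β₂_app f I F hF
  haveI : IsIso ((Groth.Agent.Lib.Helper5.AssocD.ε ((pushCx f).obj I)).app F) :=
    isIso_counit_app (Groth.Agent.Lib.Helper5.LTenAll.adaptedQ_tensorCxQ ((pushCx f).obj I))
      (DCoh.LTensorCx ((pushCx f).obj I)) _ F hF
  have h := congrArg (fun φ => (DCoh.restrictD V.ι).map φ) (tauY_app f I F)
  simp only [Functor.map_comp] at h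
  have e1 : IsIso ((DCoh.restrictD V.ι).map ((tauY f I).app (DerivedCategory.Q.obj F))) ↔
      IsIso ((DCoh.restrictD V.ι).map ((rhoNat f I).app F)) :=
    isIso_iff_of_sq _ _ _ _ h.symm
  rw [e1]
  unfold RhoIsoOn
  show IsIso ((DCoh.restrictD V.ι).map
    (DerivedCategory.Q.map (braidCx F ((pushCx f).obj I)).hom ≫ rho f I F ≫
      (DCoh.Rpush f).map (DerivedCategory.Q.map (braidCx I ((pullCx f).obj F)).hom))) ↔ _
  rw [Functor.map_comp, Functor.map_comp]
  constructor
  · intro h1
    haveI := h1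
    haveI h2 : IsIso ((DCoh.restrictD V.ι).map (rho f I F) ≫ (DCoh.restrictD V.ι).map
        ((DCoh.Rpush f).map (DerivedCategory.Q.map (braidCx I ((pullCx f).obj F)).hom))) :=
      IsIso.of_isIso_comp_left ((DCoh.restrictD V.ι).map
        (DerivedCategory.Q.map (braidCx F ((pushCx f).obj I)).hom)) _
    exact IsIso.of_isIso_comp_right _ ((DCoh.restrictD V.ι).map
        ((DCoh.Rpush f).map (DerivedCategory.Q.map (braidCx I ((pullCx f).obj F)).hom)))
  · intro h1
    haveI := h1
    infer_instance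

end Groth.Agent.Lib.Helper5.ProjF3
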