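import Mathlib
import Groth.Agent.Lib.Helper5.ProjF3.TauY
import Groth.Agent.Lib.Helper5.BvdB.RpushCoprod
import Groth.Agent.Lib.Helper5.LTen.Coprod
import Groth.Agent.Lib.Helper5.QC.TildeExact

/-!
# The functor `D(R) ⥤ D(O_Y)`, `M ↦ j_! (M~)` for an affine open `V ≅ Spec R` of `Y` (helper5)
-/
set_option autoImplicit false
set_option linter.unusedSectionVars false
set_option linter.unusedVariables false
set_option linter.style.haveILetI false
universe u
open CategoryTheory CategoryTheory.Limits Pretriangulated AlgebraicGeometry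
attribute [local instance] HasDerivedCategory.standard

namespace Groth.Agent.Lib.Helper5.ProjF3

open Groth.Agent.Lib.Helper5.ProjF2 Groth.Agent.Lib.Helper5.BvdB Helper5.Gen
  Groth.Agent.Lib.Helper5.QC

attribute [local instance] Groth.Agent.Lib.Helper5.BvdB.preservesFiniteLimits_extZero

variable {Y : Scheme.{u}} (V : Y.Opens) (R : CommRingCat.{u})
  (φ : (↑V : Scheme.{u}) ≅ Spec (CommRingCat.of R))

/-- `M ↦ (M~)|_V` -/
noncomputable abbrev ThetaV : DerivedCategory (ModuleCat.{u} R) ⥤ DCoh.D (↑V : Scheme.{u}) :=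
  DCoh.tildeD R ⋙ DCoh.restrictD φ.hom

/-- `M ↦ j_! (M~)` -/
noncomputable abbrev Theta : DerivedCategory (ModuleCat.{u} R) ⥤ DCoh.D Y :=
  ThetaV V R φ ⋙ CxOX.extZeroD V.ι

theorem weakTri_ThetaV : WeakTri (ThetaV V R φ) :=
  (weakTri_of_isTriangulated (DCoh.tildeD R)).comp (weakTri_of_isTriangulated _)

theorem weakTri_Theta : WeakTri (Theta V R φ) :=
  (weakTri_ThetaV V R φ).comp (weakTri_of_isTriangulated _)

theorem presCoprod_tildeD : PresCoprod.{u} (DCoh.tildeD R) := by
  intro J E P g hc
  haveI : PreservesColimitsOfSize.{u, u} (tilde.functor R) :=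
    (tilde.adjunction (R := R)).leftAdjoint_preservesColimits
  exact nonempty_isColimit_mapDerivedCategory (tilde.functor R) hc

theorem presCoprod_ThetaV : PresCoprod.{u} (ThetaV V R φ) :=
  (presCoprod_tildeD R).comp (presCoprod_restrictD φ.hom)

theorem presCoprod_Theta : PresCoprod.{u} (Theta V R φ) :=
  (presCoprod_ThetaV V R φ).comp (presCoprod_extZeroD V)

end Groth.Agent.Lib.Helper5.ProjF3
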