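import Mathlib
import Groth.Agent.Lib.Helper5.ProjF3.Theta
import Groth.Agent.Lib.Helper5.QC.FpqcPC
import Groth.Agent.Lib.Helper5.QC.LpullQC
import Groth.Agent.Lib.Helper5.QC.LTenQC
import Groth.Agent.Lib.Helper5.RHomQC.ResTen
import Groth.Agent.Lib.Helper5.BvdB.ShriekRes
import Groth.Agent.Lib.Helper5.Stalk.LpullComp
import Groth.Agent.Lib.Helper5.QC.SpecMain

/-!
# Quasi-coherence of `(Lf^* j_! S ⊗^L I)|_{f⁻¹ V}` (helper5)
-/
set_option autoImplicit false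
set_option linter.unusedSectionVars false
set_option linter.unusedVariables false
set_option linter.style.haveILetI false
universe u
open CategoryTheory CategoryTheory.Limits Pretriangulated AlgebraicGeometry
attribute [local instance] HasDerivedCategory.standard

namespace Groth.Agent.Lib.Helper5.ProjF3

open Groth.Agent.Lib.Helper5.ProjF2 Groth.Agent.Lib.Helper5.BvdB Helper5.Gen
  Groth.Agent.Lib.Helper5.QC Groth.Agent.Lib.Helper5.ShriekProj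

attribute [local instance] Groth.Agent.Lib.Helper5.BvdB.preservesFiniteLimits_extZero

variable {X Y : Scheme.{u}} (f : X ⟶ Y) (V : Y.Opens)

/-- `(Lf^* j_! S)|_{f⁻¹ V}` is quasi-coherent for `S ∈ D_QCoh(V)` -/
theorem isQCohD_restrict_lpull_extZero [DCoh.HasLpull f] (S : DCoh.D (↑V : Scheme.{u}))
    (hS : DCoh.IsQCohD S) :
    DCoh.IsQCohD ((DCoh.restrictD (f ⁻¹ᵁ V).ι).obj
      ((DCoh.Lpull f).obj ((CxOX.extZeroD V.ι).obj S))) := by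
  haveI : DCoh.HasLpull (f ∣_ V) := Groth.Agent.Lib.Helper5.LpullLib.hasLpull _
  haveI : DCoh.HasLpull V.ι := Groth.Agent.Lib.Helper5.LpullLib.hasLpull _
  haveI : DCoh.HasLpull (f ⁻¹ᵁ V).ι := Groth.Agent.Lib.Helper5.LpullLib.hasLpull _
  haveI : DCoh.HasLpull ((f ⁻¹ᵁ V).ι ≫ f) := Groth.Agent.Lib.Helper5.LpullLib.hasLpull _
  haveI : DCoh.HasLpull ((f ∣_ V) ≫ V.ι) := Groth.Agent.Lib.Helper5.LpullLib.hasLpull _
  let B := (CxOX.extZeroD V.ι).obj S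
  obtain ⟨e1⟩ := Groth.Agent.Lib.Helper5.FpqcPC.nonempty_lpull_iso_restrictD (f ⁻¹ᵁ V).ι
    ((DCoh.Lpull f).obj B)
  obtain ⟨c2⟩ := Groth.Agent.Lib.Helper5.LpullLib.lpull_comp (f ⁻¹ᵁ V).ι f
  obtain ⟨c4⟩ := Groth.Agent.Lib.Helper5.LpullLib.lpull_comp (f ∣_ V) V.ι
  obtain ⟨e5⟩ := Groth.Agent.Lib.Helper5.FpqcPC.nonempty_lpull_iso_restrictD V.ι B
  let e6 : (DCoh.restrictD V.ι).obj B ≅ S := (asIso ((shriekAdj V).unit.app S)).symm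
  let e : (DCoh.restrictD (f ⁻¹ᵁ V).ι).obj ((DCoh.Lpull f).obj B) ≅
      (DCoh.Lpull (f ∣_ V)).obj S :=
    e1.symm ≪≫ c2.app B ≪≫ (lpullCongr (morphismRestrict_ι f V).symm).app B ≪≫
      (c4.app B).symm ≪≫ (DCoh.Lpull (f ∣_ V)).mapIso (e5 ≪≫ e6)
  exact isQCohD_of_iso e.symm (isQCohD_Lpull (f ∣_ V) S hS)

/-- `(Lf^* j_! S ⊗^L I)|_{f⁻¹ V}` is quasi-coherent for `S ∈ D_QCoh(V)` and `I ∈ D_QCoh(X)` -/
theorem isQCohD_restrict_W [DCoh.HasLpull f] (I : CochainComplex X.Modules ℤ)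
    [DCoh.HasLTensorCx I] (hI : DCoh.IsQCohD (DerivedCategory.Q.obj I))
    (S : DCoh.D (↑V : Scheme.{u})) (hS : DCoh.IsQCohD S) :
    DCoh.IsQCohD ((DCoh.restrictD (f ⁻¹ᵁ V).ι).obj ((DCoh.LTensorCx I).obj
      ((DCoh.Lpull f).obj ((CxOX.extZeroD V.ι).obj S)))) := by
  haveI : DCoh.HasLTensorCx (KV (f ⁻¹ᵁ V) I) := Groth.Agent.Lib.Helper5.LTenAll.hasLTensorCx _
  have hKV : DCoh.IsQCohD (DCoh.toD _ (KV (f ⁻¹ᵁ V) I)) :=
    isQCohD_of_iso ((Groth.Agent.Lib.Helper5.RHomQC.facRs (f ⁻¹ᵁ V)).app I)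
      (Groth.Agent.Lib.Helper5.HomVanish.isQCohD_restrictJ (f ⁻¹ᵁ V).ι _ hI)
  exact isQCohD_of_iso
    ((Groth.Agent.Lib.Helper5.RHomQC.resTenIso (f ⁻¹ᵁ V) I).app _).symm
    (isQCohD_LTensorCx (KV (f ⁻¹ᵁ V) I) hKV _ (isQCohD_restrict_lpull_extZero f V S hS))

variable (R : CommRingCat.{u}) (φ : (↑V : Scheme.{u}) ≅ Spec (CommRingCat.of R))

theorem isQCohD_ThetaV (M : DerivedCategory (ModuleCat.{u} R)) :
    DCoh.IsQCohD ((ThetaV V R φ).obj M) :=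
  Groth.Agent.Lib.Helper5.HomVanish.isQCohD_restrictJ φ.hom _
    (((tildeD_main R).2.2 _).2 ⟨M, ⟨Iso.refl _⟩⟩)

/-- every object of `D_QCoh(V)` comes from `D(R)` -/
theorem exists_ThetaV_iso (S : DCoh.D (↑V : Scheme.{u})) (hS : DCoh.IsQCohD S) :
    ∃ M : DerivedCategory (ModuleCat.{u} R), Nonempty ((ThetaV V R φ).obj M ≅ S) := by
  obtain ⟨M, ⟨e⟩⟩ := ((tildeD_main R).2.2 _).1
    (Groth.Agent.Lib.Helper5.HomVanish.isQCohD_restrictJ φ.inv S hS)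
  exact ⟨M, ⟨(DCoh.restrictD φ.hom).mapIso e ≪≫ (restrictDEquiv φ.symm).unitIso.symm.app S⟩⟩

end Groth.Agent.Lib.Helper5.ProjF3
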