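import Mathlib
import Groth.Agent.Lib.Helper5.ProjF3.QCW
import Groth.Agent.Lib.Helper5.ProjF2.RhoShFree
import Groth.Agent.Lib.Helper5.Gen.GenMain
import Groth.Agent.Lib.Helper5.Gen.Compact
import Groth.Agent.Lib.Helper5.Perf.HomVanishMV
import Groth.Agent.Lib.Helper5.RHomCoh.UnitTilde
import Groth.Agent.Lib.Helper5.Perf.PerfLocFree

/-!
# The projection formula map over an affine open: the generation argument (helper5)
-/
set_option autoImplicit false
set_option linter.unusedSectionVars false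
set_option linter.unusedVariables false
set_option linter.style.haveILetI false
universe u
open CategoryTheory CategoryTheory.Limits Pretriangulated AlgebraicGeometry
attribute [local instance] HasDerivedCategory.standard

namespace Groth.Agent.Lib.Helper5.ProjF3

open Groth.Agent.Lib.Helper5.ProjF2 Groth.Agent.Lib.Helper5.BvdB Helper5.Gen
  Groth.Agent.Lib.Helper5.QC Groth.Agent.Lib.Helper5.ShriekProj
  Groth.Agent.Lib.Helper5.RpushRes

attribute [local instance] Groth.Agent.Lib.Helper5.BvdB.preservesFiniteLimits_extZero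
attribute [local instance] Groth.Agent.Lib.Helper5.HomVanish.hasRpush'

variable {X Y : Scheme.{u}} (f : X ⟶ Y) [DCoh.HasRpush f] [DCoh.HasLpull f]
  (I : CochainComplex X.Modules ℤ) [DCoh.HasLTensorCx I] [DCoh.HasLTensorCx ((pushCx f).obj I)]
  (V : Y.Opens) (R : CommRingCat.{u}) (φ : (↑V : Scheme.{u}) ≅ Spec (CommRingCat.of R))

/-- `M ↦ (j_! M~ ⊗^L f_* I)|_V` -/
noncomputable abbrev FV₁ : DerivedCategory (ModuleCat.{u} R) ⥤ DCoh.D (↑V : Scheme.{u}) :=
  Theta V R φ ⋙ DCoh.LTensorCx ((pushCx f).obj I) ⋙ DCoh.restrictD V.ι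

/-- `M ↦ (Rf_* (Lf^* j_! M~ ⊗^L I))|_V` -/
noncomputable abbrev FV₂ : DerivedCategory (ModuleCat.{u} R) ⥤ DCoh.D (↑V : Scheme.{u}) :=
  Theta V R φ ⋙ L₂ f I ⋙ DCoh.restrictD V.ι

/-- the projection formula map over `V`, on `D(R)` -/
noncomputable def tauV : FV₁ f I V R φ ⟶ FV₂ f I V R φ :=
  Functor.whiskerLeft (Theta V R φ) (Functor.whiskerRight (tauY f I) (DCoh.restrictD V.ι))

lemma tauV_app (M : DerivedCategory (ModuleCat.{u} R)) :
    (tauV f I V R φ).app M =
      (DCoh.restrictD V.ι).map ((tauY f I).app ((Theta V R φ).obj M)) := rfl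

theorem coyExact_FV₁ : CoyExact (FV₁ f I V R φ) :=
  ((weakTri_Theta V R φ).comp ((weakTri_LTensorCx _).comp
    (weakTri_of_isTriangulated (DCoh.restrictD V.ι)))).coyExact

theorem coyExact_FV₂ : CoyExact (FV₂ f I V R φ) :=
  ((weakTri_Theta V R φ).comp ((weakTri_L₂ f I).comp
    (weakTri_of_isTriangulated (DCoh.restrictD V.ι)))).coyExact

theorem presCoprod_FV₁ : PresCoprod.{u} (FV₁ f I V R φ) :=
  (presCoprod_Theta V R φ).comp
    ((Groth.Agent.Lib.Helper5.LTenCoprod.presCoprod_LTensorCx _).comp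
      (presCoprod_restrictD V.ι))

theorem presCoprod_FV₂ [QuasiCompact f] [QuasiSeparated f]
    (hI : DCoh.IsQCohD (DerivedCategory.Q.obj I)) : PresCoprod.{u} (FV₂ f I V R φ) := by
  have hW : PresCoprod.{u} (Theta V R φ ⋙ DCoh.Lpull f ⋙ DCoh.LTensorCx I) :=
    (presCoprod_Theta V R φ).comp
      ((presCoprod_of_adjunction (Groth.Agent.Lib.Helper5.LpullLib.lpullRpushAdj f)).comp
        (Groth.Agent.Lib.Helper5.LTenCoprod.presCoprod_LTensorCx I))
  have h1 : PresCoprodRel.{u}
      (fun M : DCoh.D X => DCoh.IsQCohD ((DCoh.restrictD (f ⁻¹ᵁ V).ι).obj M))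
      (DCoh.Rpush f ⋙ DCoh.restrictD V.ι) :=
    PresCoprodRel.of_iso (rpushRestrictIso f V).symm
      (PresCoprodRel.comp (presCoprod_restrictD (f ⁻¹ᵁ V).ι) (fun Y hY => hY)
        (presCoprodRel_rpush (f ∣_ V)))
  intro J E P g hc
  obtain ⟨h2⟩ := hW J E P g hc
  exact h1 J _ _ _ h2 (fun j => isQCohD_restrict_W f V I hI _ (isQCohD_ThetaV V R φ (E j)))

variable [I.IsKInjective]

/-- `τ_V` is an isomorphism at objects represented over `V` by bounded complexes of finite free
modules -/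
theorem isIso_tauV_of_free (M : DerivedCategory (ModuleCat.{u} R))
    (S : CochainComplex (↑V : Scheme.{u}).Modules ℤ) (a b : ℤ) (hS : DCoh.VanishesOutside S a b)
    (hfree : ∀ q : ℤ, ∃ r : ℕ, Nonempty (S.X q ≅ FlatMod.freeMod (↑V : Scheme.{u}) r))
    (e : (ThetaV V R φ).obj M ≅ DerivedCategory.Q.obj S) :
    IsIso ((tauV f I V R φ).app M) := by
  have hSK : DCoh.IsKFlat S :=
    Groth.Agent.Lib.Helper5.LTenDer.isKFlat_of_isStrictlyPerfect S
      ⟨⟨a, b, hS⟩, fun i => by
        obtain ⟨r, ⟨e'⟩⟩ := hfree i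
        exact Groth.Agent.Lib.Helper5.Shrink.isFinLocFree_of_iso_free _ r e'⟩
  let ê : (Theta V R φ).obj M ≅ DerivedCategory.Q.obj ((ShCx V).obj S) :=
    (CxOX.extZeroD V.ι).mapIso e ≪≫ (facSh V).app S
  have h3 : RhoIsoOn f I V ((ShCx V).obj S) := rhoIsoOn_extZero_free f I V S a b hS hfree
  haveI h4 : IsIso ((DCoh.restrictD V.ι).map
      ((tauY f I).app (DerivedCategory.Q.obj ((ShCx V).obj S)))) :=
    (isIso_restrict_tauY_iff f I V _ (isKFlat_extZero V S hSK)).2 h3
  have hn := (tauY f I).naturality ê.hom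
  have h5 : (tauY f I).app ((Theta V R φ).obj M) =
      (DCoh.LTensorCx ((pushCx f).obj I)).map ê.hom ≫
        (tauY f I).app (DerivedCategory.Q.obj ((ShCx V).obj S)) ≫ (L₂ f I).map ê.inv := by
    rw [← Category.assoc, hn, Category.assoc, ← Functor.map_comp, Iso.hom_inv_id,
      CategoryTheory.Functor.map_id, Category.comp_id]
  rw [tauV_app, h5, Functor.map_comp, Functor.map_comp]
  infer_instance

/-- the complex `O_V[n]` -/
noncomputable abbrev unitCx (n : ℤ) : CochainComplex (↑V : Scheme.{u}).Modules ℤ :=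
  ((HomologicalComplex.single (↑V : Scheme.{u}).Modules (ComplexShape.up ℤ) 0).obj
    (Coh.structureModule (↑V : Scheme.{u})))⟦n⟧

/-- `(R[n])~|_V ≅ O_V[n]` -/
noncomputable def thetaUnitIso (n : ℤ) :
    (ThetaV V R φ).obj ((Dual.inD R R)⟦n⟧) ≅ DerivedCategory.Q.obj (unitCx V n) :=
  ((ThetaV V R φ).commShiftIso n).app (Dual.inD R R) ≪≫
    (shiftFunctor (DCoh.D (↑V : Scheme.{u})) n).mapIso
      ((DCoh.restrictD φ.hom).mapIso (Groth.Agent.Lib.Helper5.RHomCoh.tildeOOIso R) ≪≫
        Groth.Agent.Lib.Helper5.RHomCoh.restrictOOIso φ.hom ≪≫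
        (DerivedCategory.singleFunctorIsoCompQ (↑V : Scheme.{u}).Modules 0).app
          (Coh.structureModule (↑V : Scheme.{u}))) ≪≫
    ((DerivedCategory.Q.commShiftIso n).app _).symm

theorem isoLocus_tauV : isoLocus (tauV f I V R φ) (Dual.inD R R) := by
  intro n
  refine isIso_tauV_of_free f I V R φ _ (unitCx V n) (-n) (-n) ?_ ?_ (thetaUnitIso V R φ n)
  · intro i hi
    have hne : i + n ≠ 0 := by omega
    show IsZero (((HomologicalComplex.single (↑V : Scheme.{u}).Modules (ComplexShape.up ℤ) 0).obj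
      (Coh.structureModule (↑V : Scheme.{u}))).X (i + n))
    exact HomologicalComplex.isZero_single_obj_X _ _ _ _ hne
  · intro q
    by_cases hq : q + n = 0
    · refine ⟨1, ⟨?_⟩⟩
      have e1 : (unitCx V n).X q ≅
          ((HomologicalComplex.single (↑V : Scheme.{u}).Modules (ComplexShape.up ℤ) 0).obj
            (Coh.structureModule (↑V : Scheme.{u}))).X 0 :=
        HomologicalComplex.XIsoOfEq
          ((HomologicalComplex.single (↑V : Scheme.{u}).Modules (ComplexShape.up ℤ) 0).obj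
            (Coh.structureModule (↑V : Scheme.{u}))) hq
      exact e1 ≪≫ HomologicalComplex.singleObjXSelf (ComplexShape.up ℤ) 0
          (Coh.structureModule (↑V : Scheme.{u})) ≪≫
        (coproductUniqueIso (fun _ : Fin 1 => Coh.structureModule (↑V : Scheme.{u}))).symm
    · have hz : IsZero ((unitCx V n).X q) := by
        show IsZero (((HomologicalComplex.single (↑V : Scheme.{u}).Modules
          (ComplexShape.up ℤ) 0).obj (Coh.structureModule (↑V : Scheme.{u}))).X (q + n))
        exact HomologicalComplex.isZero_single_obj_X _ _ _ _ hq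
      exact ⟨0, ⟨hz.iso (Groth.Agent.Lib.Helper5.Shrink.isZero_freeMod_zero _)⟩⟩

/-- **`τ_V` is an isomorphism on all of `D(R)`** -/
theorem isIso_tauV_app [QuasiCompact f] [QuasiSeparated f]
    (hI : DCoh.IsQCohD (DerivedCategory.Q.obj I)) (M : DerivedCategory (ModuleCat.{u} R)) :
    IsIso ((tauV f I V R φ).app M) :=
  isIso_app_of_unit (tauV f I V R φ) (coyExact_FV₁ f I V R φ) (coyExact_FV₂ f I V R φ)
    (presCoprod_FV₁ f I V R φ) (presCoprod_FV₂ f I V R φ hI)
    (presCoprod_FV₁ f I V R φ).down (presCoprod_FV₂ f I V R φ hI).down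
    (isoLocus_tauV f I V R φ) M

end Groth.Agent.Lib.Helper5.ProjF3
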