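import Mathlib
import Groth.Agent.Lib.Helper5.ProjF3.GenV
import Groth.Agent.Lib.Helper5.ProjF2.Roof
import Groth.Agent.Lib.Helper5.Perf.RpushOpen
import Groth.Agent.Lib.Helper5.LTen.TensorTri

/-!
# The projection formula `Rf_* E ⊗^L K ≅ Rf_* (E ⊗^L Lf^* K)` for quasi-compact quasi-separated
`f` and `E`, `K` with quasi-coherent cohomology (helper5)
-/
set_option autoImplicit false
set_option linter.unusedSectionVars false
set_option linter.unusedVariables false
set_option linter.style.haveILetI false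
universe u
open CategoryTheory CategoryTheory.Limits Pretriangulated AlgebraicGeometry
attribute [local instance] HasDerivedCategory.standard

namespace Groth.Agent.Lib.Helper5.ProjF3

open Groth.Agent.Lib.Helper5.ProjF2 Groth.Agent.Lib.Helper5.BvdB Helper5.Gen
  Groth.Agent.Lib.Helper5.QC Groth.Agent.Lib.Helper5.ShriekProj

attribute [local instance] Groth.Agent.Lib.Helper5.BvdB.preservesFiniteLimits_extZero
attribute [local instance] Groth.Agent.Lib.Helper5.HomVanish.hasRpush'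

variable {X Y : Scheme.{u}} (f : X ⟶ Y) [QuasiCompact f] [QuasiSeparated f] [DCoh.HasRpush f]
  (I : CochainComplex X.Modules ℤ) [I.IsKInjective]

/-- `ρ_P` is an isomorphism over every affine open, for `I`, `P` with quasi-coherent
cohomology -/
theorem rhoIsoOn_of_isQCoh (hI : DCoh.IsQCohD (DerivedCategory.Q.obj I))
    (P : CochainComplex Y.Modules ℤ) (hP : DCoh.IsKFlat P)
    (hPQ : DCoh.IsQCohD (DerivedCategory.Q.obj P)) (V : Y.Opens) (hV : IsAffineOpen V) :
    RhoIsoOn f I V P := by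
  haveI : DCoh.HasLpull f := Groth.Agent.Lib.Helper5.LpullLib.hasLpull f
  haveI : DCoh.HasLTensorCx I := Groth.Agent.Lib.Helper5.LTenAll.hasLTensorCx _
  haveI : DCoh.HasLTensorCx ((pushCx f).obj I) := Groth.Agent.Lib.Helper5.LTenAll.hasLTensorCx _
  let R : CommRingCat.{u} := Γ(Y, V)
  let φ : (↑V : Scheme.{u}) ≅ Spec (CommRingCat.of R) := hV.isoSpec
  let N : CochainComplex (↑V : Scheme.{u}).Modules ℤ := (DCoh.restrictCx V).obj P
  have hPV : DCoh.IsKFlat N := Groth.Agent.Lib.Helper5.PerfTensor.isKFlat_restrict V.ι P hP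
  have hN : DCoh.IsQCohD (DerivedCategory.Q.obj N) :=
    isQCohD_of_iso ((Groth.Agent.Lib.Helper5.RHomQC.facRs V).app P)
      (Groth.Agent.Lib.Helper5.HomVanish.isQCohD_restrictJ V.ι _ hPQ)
  obtain ⟨M, ⟨e⟩⟩ := exists_ThetaV_iso V R φ (DerivedCategory.Q.obj N) hN
  haveI h1 : IsIso ((DCoh.restrictD V.ι).map ((tauY f I).app ((Theta V R φ).obj M))) :=
    isIso_tauV_app f I V R φ hI M
  let ê : (Theta V R φ).obj M ≅ DerivedCategory.Q.obj ((ShCx V).obj N) :=
    (CxOX.extZeroD V.ι).mapIso e ≪≫ (facSh V).app N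
  have hn := (tauY f I).naturality ê.hom
  have h5 : (tauY f I).app (DerivedCategory.Q.obj ((ShCx V).obj N)) =
      (DCoh.LTensorCx ((pushCx f).obj I)).map ê.inv ≫
        (tauY f I).app ((Theta V R φ).obj M) ≫ (L₂ f I).map ê.hom := by
    rw [← hn, ← Category.assoc, ← Functor.map_comp, Iso.inv_hom_id,
      CategoryTheory.Functor.map_id, Category.id_comp]
  have h2 : IsIso ((DCoh.restrictD V.ι).map
      ((tauY f I).app (DerivedCategory.Q.obj ((ShCx V).obj N)))) := by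
    rw [h5, Functor.map_comp, Functor.map_comp]
    infer_instance
  have h3 : RhoIsoOn f I V ((ShCx V).obj N) :=
    (isIso_restrict_tauY_iff f I V _ (isKFlat_extZero V N hPV)).1 h2
  exact (rhoIsoOn_iff_of_restrict_iso f I V (epsCx V P)
    (fun n => isIso_restrict_counit V (P.X n))).1 h3

/-- **`ρ_P` is an isomorphism** for a K-injective `I` and a K-flat `P`, both with quasi-coherent
cohomology -/
theorem isIso_rho_of_isQCoh (hI : DCoh.IsQCohD (DerivedCategory.Q.obj I))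
    (P : CochainComplex Y.Modules ℤ) (hP : DCoh.IsKFlat P)
    (hPQ : DCoh.IsQCohD (DerivedCategory.Q.obj P)) : IsIso (rho f I P) := by
  apply isIso_of_locally_D
  intro y
  obtain ⟨_, ⟨V, hV : IsAffineOpen V, rfl⟩, hyV, -⟩ :=
    Y.isBasis_affineOpens.exists_subset_of_mem_open (Set.mem_univ y) isOpen_univ
  exact ⟨V, hyV, rhoIsoOn_of_isQCoh f I hI P hP hPQ V hV⟩

/-- **the projection formula** `Rf_* E ⊗^L K ≅ Rf_* (E ⊗^L Lf^* K)` for `f` quasi-compact and
quasi-separated and `E`, `K` with quasi-coherent cohomology sheaves -/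
theorem nonempty_projFormula_qcoh {X Y : Scheme.{u}} (f : X ⟶ Y) [QuasiCompact f]
    [QuasiSeparated f] [DCoh.HasRpush f] [DCoh.HasLpull f]
    (E : DCoh.D X) (hE : DCoh.IsQCohD E)
    (K : CochainComplex Y.Modules ℤ) (hK : DCoh.IsQCohD (DCoh.toD Y K)) [DCoh.HasLTensorCx K]
    (M : CochainComplex X.Modules ℤ)
    (hM : Nonempty (DCoh.toD X M ≅ (DCoh.Lpull f).obj (DCoh.toD Y K))) [DCoh.HasLTensorCx M] :
    Nonempty ((DCoh.LTensorCx K).obj ((DCoh.Rpush f).obj E) ≅
      (DCoh.Rpush f).obj ((DCoh.LTensorCx M).obj E)) := by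
  obtain ⟨I, hI, ⟨eI⟩⟩ := Groth.Agent.Lib.Helper5.RpushOpen.exists_kInjective_repr E
  haveI := hI
  have hIQ : DCoh.IsQCohD (DerivedCategory.Q.obj I) := isQCohD_of_iso eI hE
  obtain ⟨P, p, hP, hp⟩ := kflat_res K
  haveI := hp
  haveI : IsIso (DerivedCategory.Q.map p) := (DerivedCategory.isIso_Q_map_iff_quasiIso _ p).2 hp
  have hPQ : DCoh.IsQCohD (DerivedCategory.Q.obj P) :=
    isQCohD_of_iso (asIso (DerivedCategory.Q.map p)).symm hK
  let fP : CochainComplex X.Modules ℤ := (pullCx f).obj P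
  have hfP : DCoh.IsKFlat fP := Groth.Agent.Lib.Helper5.KFlatPull.isKFlat_pullback f P hP
  haveI := isIso_uCx_of_isKInjective f I
  haveI := isIso_rho_of_isQCoh f I hIQ P hP hPQ
  obtain ⟨l0⟩ := Groth.Agent.Lib.Helper5.LTenTri.nonempty_ltensor_iso K P hP p hp
    ((pushCx f).obj I)
  let l1 : (DCoh.LTensorCx K).obj ((DCoh.Rpush f).obj E) ≅
      DerivedCategory.Q.obj ((LF f I).obj P) :=
    (DCoh.LTensorCx K).mapIso ((DCoh.Rpush f).mapIso eI ≪≫ (asIso (uCx f I)).symm) ≪≫ l0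
  obtain ⟨eM⟩ := hM
  let eMP : DerivedCategory.Q.obj M ≅ DerivedCategory.Q.obj fP :=
    eM ≪≫ (DCoh.Lpull f).mapIso (asIso (DerivedCategory.Q.map p)).symm ≪≫
      Groth.Agent.Lib.Helper5.ProjF.lpullObjIsoKF f P hP
  obtain ⟨P', s, g, hP', hs, hg⟩ := exists_kflat_roof M fP eMP
  obtain ⟨r0⟩ := Groth.Agent.Lib.Helper5.LTenTri.nonempty_ltensor_iso M P' hP' s hs I
  haveI : QuasiIso ((DCoh.tensorCx.obj I).map g) :=
    quasiIso_tensor_map_of_isKFlat I g hP' hfP hg
  let r1 : (DCoh.LTensorCx M).obj E ≅ DerivedCategory.Q.obj ((KF f I).obj P) :=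
    (DCoh.LTensorCx M).mapIso eI ≪≫ r0 ≪≫
      asIso (DerivedCategory.Q.map ((DCoh.tensorCx.obj I).map g))
  exact ⟨l1 ≪≫ asIso (rho f I P) ≪≫ (DCoh.Rpush f).mapIso r1.symm⟩

end Groth.Agent.Lib.Helper5.ProjF3
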