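import Mathlib
import Groth.Agent.Lib.Helper5.ProjF3.Main3
import Groth.Agent.Lib.Helper5.TildePC.Main
import Groth.Agent.Lib.Helper5.DRing.Thick
import Groth.Agent.Lib.Helper5.Perf.CountHomAff
import Groth.Agent.Lib.Helper5.Perf.PerfTri

/-!
# The projection formula `Rf_* E ⊗^L K ≅ Rf_* (E ⊗^L Lf^* K)` for perfect `K`, an arbitrary
morphism `f` and an arbitrary `E` (helper5)
-/
set_option autoImplicit false
set_option linter.unusedSectionVars false
set_option linter.unusedVariables false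
set_option linter.style.haveILetI false
universe u
open CategoryTheory CategoryTheory.Limits Pretriangulated AlgebraicGeometry
attribute [local instance] HasDerivedCategory.standard

namespace Groth.Agent.Lib.Helper5.ProjF3

open Groth.Agent.Lib.Helper5.ProjF2 Groth.Agent.Lib.Helper5.BvdB Helper5.Gen
  Groth.Agent.Lib.Helper5.QC Groth.Agent.Lib.Helper5.ShriekProj

attribute [local instance] Groth.Agent.Lib.Helper5.BvdB.preservesFiniteLimits_extZero
attribute [local instance] Groth.Agent.Lib.Helper5.HomVanish.hasRpush'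

section Retract

variable {C : Type*} [Category C] {D : Type*} [Category D] {F₁ F₂ : C ⥤ D} (τ : F₁ ⟶ F₂)

theorem isIso_app_of_retract {A B : C} (i : A ⟶ B) (r : B ⟶ A) (hir : i ≫ r = 𝟙 A)
    [IsIso (τ.app B)] : IsIso (τ.app A) := by
  refine ⟨F₂.map i ≫ inv (τ.app B) ≫ F₁.map r, ?_, ?_⟩
  · rw [← τ.naturality_assoc, IsIso.hom_inv_id_assoc, ← Functor.map_comp, hir,
      CategoryTheory.Functor.map_id]
  · rw [Category.assoc, Category.assoc, τ.naturality, IsIso.inv_hom_id_assoc,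
      ← Functor.map_comp, hir, CategoryTheory.Functor.map_id]

end Retract

section Perfect

variable {Y : Scheme.{u}} (V : Y.Opens) (R : CommRingCat.{u})
  (φ : (↑V : Scheme.{u}) ≅ Spec (CommRingCat.of R))

/-- every perfect object of `D(V)` comes from a perfect object of `D(R)` -/
theorem exists_ThetaV_iso_perfect (S : DCoh.D (↑V : Scheme.{u})) (hS : DCoh.IsPerfect S) :
    ∃ M : DerivedCategory (ModuleCat.{u} R), DRing.IsPerfect R M ∧
      Nonempty ((ThetaV V R φ).obj M ≅ S) := by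
  have hq : DCoh.IsQCohD S := Groth.Agent.Lib.Helper5.CountHom.isQCohD_of_isPerfect S hS
  obtain ⟨M, ⟨e⟩⟩ := ((tildeD_main R).2.2 _).1
    (Groth.Agent.Lib.Helper5.HomVanish.isQCohD_restrictJ φ.inv S hq)
  have hp : DCoh.IsPerfect ((DCoh.restrictD φ.inv).obj S) :=
    Groth.Agent.Lib.Helper5.CountHom.isPerfect_restrictJ φ.inv S hS
  have hM : DRing.IsPerfect R M :=
    (Groth.Agent.Lib.Helper5.TildePC.isPerfect_tildeD_iff R M).1
      (Groth.Agent.Lib.Helper5.PerfTri.isPerfect_of_iso e.symm hp)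
  exact ⟨M, hM, ⟨(DCoh.restrictD φ.hom).mapIso e ≪≫ (restrictDEquiv φ.symm).unitIso.symm.app S⟩⟩

end Perfect

variable {X Y : Scheme.{u}} (f : X ⟶ Y) [DCoh.HasRpush f]
  (I : CochainComplex X.Modules ℤ) [I.IsKInjective]

section Locus

variable [DCoh.HasLpull f] [DCoh.HasLTensorCx I] [DCoh.HasLTensorCx ((pushCx f).obj I)]
  (V : Y.Opens) (R : CommRingCat.{u}) (φ : (↑V : Scheme.{u}) ≅ Spec (CommRingCat.of R))

/-- `τ_V` is an isomorphism on perfect objects of `D(R)` -/
theorem isoLocus_tauV_of_isPerfect (M : DerivedCategory (ModuleCat.{u} R))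
    (hM : DRing.IsPerfect R M) : isoLocus (tauV f I V R φ) M := by
  haveI := isoLocus_isTriangulated (tauV f I V R φ) (coyExact_FV₁ f I V R φ)
    (coyExact_FV₂ f I V R φ)
  refine Groth.Agent.Helper5.DRingCone.prop_perfect (isoLocus (tauV f I V R φ))
    (isoLocus_tauV f I V R φ) (fun K n h => isoLocus_shift _ K h n)
    (fun T hT h1 h3 => (isoLocus (tauV f I V R φ)).ext_of_isTriangulatedClosed₂ T hT h1 h3)
    (fun A B _ h => ?_) M hM
  intro n
  haveI := h n
  exact isIso_app_of_retract (tauV f I V R φ)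
    ((shiftFunctor _ n).map (biprod.inl : A ⟶ A ⊞ B))
    ((shiftFunctor _ n).map (biprod.fst : A ⊞ B ⟶ A))
    (by rw [← Functor.map_comp, biprod.inl_fst, CategoryTheory.Functor.map_id])

end Locus

/-- `ρ_P` is an isomorphism over every affine open, for a K-flat perfect `P` -/
theorem rhoIsoOn_of_isPerfect
    (P : CochainComplex Y.Modules ℤ) (hP : DCoh.IsKFlat P)
    (hPQ : DCoh.IsPerfect (DerivedCategory.Q.obj P)) (V : Y.Opens) (hV : IsAffineOpen V) :
    RhoIsoOn f I V P := by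
  haveI : DCoh.HasLpull f := Groth.Agent.Lib.Helper5.LpullLib.hasLpull f
  haveI : DCoh.HasLTensorCx I := Groth.Agent.Lib.Helper5.LTenAll.hasLTensorCx _
  haveI : DCoh.HasLTensorCx ((pushCx f).obj I) := Groth.Agent.Lib.Helper5.LTenAll.hasLTensorCx _
  let R : CommRingCat.{u} := Γ(Y, V)
  let φ : (↑V : Scheme.{u}) ≅ Spec (CommRingCat.of R) := hV.isoSpec
  let N : CochainComplex (↑V : Scheme.{u}).Modules ℤ := (DCoh.restrictCx V).obj P
  have hPV : DCoh.IsKFlat N := Groth.Agent.Lib.Helper5.PerfTensor.isKFlat_restrict V.ι P hP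
  have hN : DCoh.IsPerfect (DerivedCategory.Q.obj N) :=
    Groth.Agent.Lib.Helper5.PerfTri.isPerfect_of_iso
      ((Groth.Agent.Lib.Helper5.RHomQC.facRs V).app P)
      (Groth.Agent.Lib.Helper5.CountHom.isPerfect_restrictJ V.ι _ hPQ)
  obtain ⟨M, hM, ⟨e⟩⟩ := exists_ThetaV_iso_perfect V R φ (DerivedCategory.Q.obj N) hN
  haveI h1 : IsIso ((DCoh.restrictD V.ι).map ((tauY f I).app ((Theta V R φ).obj M))) := by
    have := isoLocus_app (tauV f I V R φ) M (isoLocus_tauV_of_isPerfect f I V R φ M hM)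
    exact this
  let ê : (Theta V R φ).obj M ≅ DerivedCategory.Q.obj ((ShCx V).obj N) :=
    (CxOX.extZeroD V.ι).mapIso e ≪≫ (facSh V).app N
  have hn := (tauY f I).naturality ê.hom
  have h5 : (tauY f I).app (DerivedCategory.Q.obj ((ShCx V).obj N)) =
      (DCoh.LTensorCx ((pushCx f).obj I)).map ê.inv ≫
        (tauY f I).app ((Theta V R φ).obj M) ≫ (L₂ f I).map ê.hom := by
    rw [← hn, ← Category.assoc, ← Functor.map_comp, Iso.inv_hom_id,
      CategoryTheory.Functor.map_id, Category.id_comp]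
  have h2 : IsIso ((DCoh.restrictD V.ι).map
      ((tauY f I).app (DerivedCategory.Q.obj ((ShCx V).obj N)))) := by
    rw [h5, Functor.map_comp, Functor.map_comp]
    infer_instance
  have h3 : RhoIsoOn f I V ((ShCx V).obj N) :=
    (isIso_restrict_tauY_iff f I V _ (isKFlat_extZero V N hPV)).1 h2
  exact (rhoIsoOn_iff_of_restrict_iso f I V (epsCx V P)
    (fun n => isIso_restrict_counit V (P.X n))).1 h3

/-- **`ρ_P` is an isomorphism** for a K-injective `I` and a K-flat perfect `P` -/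
theorem isIso_rho_of_isPerfect
    (P : CochainComplex Y.Modules ℤ) (hP : DCoh.IsKFlat P)
    (hPQ : DCoh.IsPerfect (DerivedCategory.Q.obj P)) : IsIso (rho f I P) := by
  apply isIso_of_locally_D
  intro y
  obtain ⟨_, ⟨V, hV : IsAffineOpen V, rfl⟩, hyV, -⟩ :=
    Y.isBasis_affineOpens.exists_subset_of_mem_open (Set.mem_univ y) isOpen_univ
  exact ⟨V, hyV, rhoIsoOn_of_isPerfect f I P hP hPQ V hV⟩

/-- **the projection formula** `Rf_* E ⊗^L K ≅ Rf_* (E ⊗^L Lf^* K)` for an arbitrary morphism `f`,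
an arbitrary `E` and a perfect `K` -/
theorem nonempty_projFormula_perfect {X Y : Scheme.{u}} (f : X ⟶ Y)
    [DCoh.HasRpush f] [DCoh.HasLpull f]
    (E : DCoh.D X)
    (K : CochainComplex Y.Modules ℤ) (hK : DCoh.IsPerfect (DCoh.toD Y K)) [DCoh.HasLTensorCx K]
    (M : CochainComplex X.Modules ℤ)
    (hM : Nonempty (DCoh.toD X M ≅ (DCoh.Lpull f).obj (DCoh.toD Y K))) [DCoh.HasLTensorCx M] :
    Nonempty ((DCoh.LTensorCx K).obj ((DCoh.Rpush f).obj E) ≅
      (DCoh.Rpush f).obj ((DCoh.LTensorCx M).obj E)) := by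
  obtain ⟨I, hI, ⟨eI⟩⟩ := Groth.Agent.Lib.Helper5.RpushOpen.exists_kInjective_repr E
  haveI := hI
  obtain ⟨P, p, hP, hp⟩ := kflat_res K
  haveI := hp
  haveI : IsIso (DerivedCategory.Q.map p) := (DerivedCategory.isIso_Q_map_iff_quasiIso _ p).2 hp
  have hPQ : DCoh.IsPerfect (DerivedCategory.Q.obj P) :=
    Groth.Agent.Lib.Helper5.PerfTri.isPerfect_of_iso (asIso (DerivedCategory.Q.map p)).symm hK
  let fP : CochainComplex X.Modules ℤ := (pullCx f).obj P
  have hfP : DCoh.IsKFlat fP := Groth.Agent.Lib.Helper5.KFlatPull.isKFlat_pullback f P hP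
  haveI := isIso_uCx_of_isKInjective f I
  haveI := isIso_rho_of_isPerfect f I P hP hPQ
  obtain ⟨l0⟩ := Groth.Agent.Lib.Helper5.LTenTri.nonempty_ltensor_iso K P hP p hp
    ((pushCx f).obj I)
  let l1 : (DCoh.LTensorCx K).obj ((DCoh.Rpush f).obj E) ≅
      DerivedCategory.Q.obj ((LF f I).obj P) :=
    (DCoh.LTensorCx K).mapIso ((DCoh.Rpush f).mapIso eI ≪≫ (asIso (uCx f I)).symm) ≪≫ l0
  obtain ⟨eM⟩ := hM
  let eMP : DerivedCategory.Q.obj M ≅ DerivedCategory.Q.obj fP :=
    eM ≪≫ (DCoh.Lpull f).mapIso (asIso (DerivedCategory.Q.map p)).symm ≪≫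
      Groth.Agent.Lib.Helper5.ProjF.lpullObjIsoKF f P hP
  obtain ⟨P', s, g, hP', hs, hg⟩ := exists_kflat_roof M fP eMP
  obtain ⟨r0⟩ := Groth.Agent.Lib.Helper5.LTenTri.nonempty_ltensor_iso M P' hP' s hs I
  haveI : QuasiIso ((DCoh.tensorCx.obj I).map g) :=
    quasiIso_tensor_map_of_isKFlat I g hP' hfP hg
  let r1 : (DCoh.LTensorCx M).obj E ≅ DerivedCategory.Q.obj ((KF f I).obj P) :=
    (DCoh.LTensorCx M).mapIso eI ≪≫ r0 ≪≫
      asIso (DerivedCategory.Q.map ((DCoh.tensorCx.obj I).map g))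
  exact ⟨l1 ≪≫ asIso (rho f I P) ≪≫ (DCoh.Rpush f).mapIso r1.symm⟩

end Groth.Agent.Lib.Helper5.ProjF3
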